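import Groth.Agent.H25FppfDesc.Divide
import Groth.Agent.H25Principal.Setup
import Groth.Agent.H25Dual.Biduality

/-!
# Symmetric homomorphisms to the dual come from classes after extending the field
-/

set_option autoImplicit false
set_option linter.style.haveILetI false
set_option linter.unusedSectionVars false
set_option backward.isDefEq.respectTransparency false
set_option backward.isDefEq.respectTransparency.types false
set_option synthInstance.maxHeartbeats 400000
set_option maxHeartbeats 1600000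
universe u

open CategoryTheory CategoryTheory.Limits MonoidalCategory CartesianMonoidalCategory MonObj GrpObj AlgebraicGeometry
open Groth.Agent Groth.Agent.H25AbCube Groth.Agent.H25Dual

noncomputable section

attribute [local instance] Functor.grpObjObj

namespace Groth.Agent.H25Symm

variable {k : Type u} [Field k] {X Xt : Over (Spec (CommRingCat.of k))} [GrpObj X] [IsCommMonObj X] [IsProper X.hom]
  [GeometricallyIntegral X.hom] [GrpObj Xt] [IsCommMonObj Xt] [IsProper Xt.hom] [GeometricallyIntegral Xt.hom]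
  {φ : AgPol.DualMap X Xt} (hφ : AbDual.IsDualAV Scheme.fppfPrecoverage X Xt φ)

include hφ in
/-- Twice a symmetric homomorphism is the homomorphism of a class. -/
theorem exists_theta_eq_sq {φ' : AgPol.DualMap Xt X} {ξ : PicF.Cl (PicF.XT X.hom Xt)}
    (hξ : AbDual.IsPoincareCl X Xt φ ξ)
    (hξ' : AbDual.IsPoincareCl Xt X φ' (PicF.pullCl (pullbackSymmetry Xt.hom X.hom).hom ξ))
    (lam : X ⟶ Xt) [IsMonHom lam] (hsymm : AbDual.IsTranspose lam φ φ' lam) :
    ∃ w : PC X.left, H26Dual.Φ φ X (theta w) = lam * lam := by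
  haveI : Smooth X.hom := by
    letI : GrpObj (Over.mk X.hom) := (‹GrpObj X› : GrpObj (Over.mk X.hom))
    exact AlgebraicGeometry.smooth_of_grpObj X.hom
  obtain ⟨⟨P, hPe, hP, hfib⟩, hξ1, hξ0⟩ := hξ
  subst hPe
  set e : PC (X ⊗ Xt).left := pc (X := (X ⊗ Xt).left) P hP with he
  have hez : H26Dual.PZ X Xt e := H26Dual.pz_pc hP ⟨P, rfl, hP, hfib⟩
  have he1 : H26Dual.Φ φ Xt e = 𝟙 Xt := (H26Dual.Φ_pc Xt P hP).trans hξ1
  have her : ev e (lift (1 : Xt ⟶ X) (𝟙 Xt)) = 0 := by
    obtain ⟨i⟩ := H12Pic.Sep.iso_of_cl_eq hξ0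
    erw [ev, he, ← pullP_pc _ P hP (H11Ample.isInvertible_pullback _ hP)]
    rw [← pc_one]
    exact (pc_eq_iff _ _).2 ⟨((Scheme.Modules.pullbackCongr (H26Dual.secT_eq (A := X) Xt)).app P).symm ≪≫ i⟩
  set es : PC (Xt ⊗ X).left := ev e (lift (snd Xt X) (fst Xt X)) with hes
  have hcl : H25Dual.toCl (X := PicF.XT Xt.hom X) es =
      PicF.pullCl (pullbackSymmetry Xt.hom X.hom).hom (PicF.cl P) := by
    rw [H25Dual.symm_eq]
    erw [H25Dual.toCl_pullP, H25Dual.toCl_pc]
  have hesz : H26Dual.PZ Xt X es := by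
    show AbDual.IsPicZeroCl Xt.hom X (H25Dual.toCl (X := PicF.XT Xt.hom X) es)
    rw [hcl]; exact hξ'.1
  have hes1 : H26Dual.Φ φ' X es = 𝟙 X := by
    show φ' X (H25Dual.toCl (X := PicF.XT Xt.hom X) es) = _
    rw [hcl]; exact hξ'.2.1
  refine ⟨ev e (lift (𝟙 X) lam), ?_⟩
  have hw : theta (ev e (lift (𝟙 X) lam)) = ev e (X ◁ lam) + ev es (lam ▷ X) := by
    have h : ∀ f : X ⊗ X ⟶ X, ev (ev e (lift (𝟙 X) lam)) f = ev e (lift f (f ≫ lam)) := fun f => by
      rw [ev_comp, comp_lift, Category.comp_id]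
    have hl : ∀ {T : Over (Spec (CommRingCat.of k))} (a a' : T ⟶ X) (b : T ⟶ Xt),
        ev e (lift (a * a') b) = ev e (lift a b) + ev e (lift a' b) := fun a a' b =>
      H26Dual.poincare_add_left hφ hez her a a' b
    have hr : ∀ {T : Over (Spec (CommRingCat.of k))} (a : T ⟶ X) (b b' : T ⟶ Xt),
        ev e (lift a (b * b')) = ev e (lift a b) + ev e (lift a b') := fun a b b' =>
      H26Dual.poincare_add_right hφ hez he1 her a b b'
    rw [theta, h, h, h, MonObj.mul_comp, hl, hr, hr, hes, ev_comp,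
      show X ◁ lam = lift (fst X X) (snd X X ≫ lam) by apply CartesianMonoidalCategory.hom_ext <;> simp,
      show lam ▷ X ≫ lift (snd Xt X) (fst Xt X) = lift (snd X X) (fst X X ≫ lam) by
        apply CartesianMonoidalCategory.hom_ext <;> simp]
    abel
  have h1 : H26Dual.PZ X X (ev e (X ◁ lam)) := H26Dual.pz_ev_left lam hez
  have h2 : H26Dual.PZ X X (ev es (lam ▷ X)) := H26Dual.pz_ev_right lam hesz
  rw [hw]
  refine (H26Dual.Φ_add hφ h1 h2).trans ?_
  have a1 : H26Dual.Φ φ X (ev e (X ◁ lam)) = lam :=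
    ((H26Dual.Φ_nat hφ lam hez).trans (congrArg (lam ≫ ·) he1)).trans (Category.comp_id lam)
  have a2 : H26Dual.Φ φ X (ev es (lam ▷ X)) = lam :=
    ((H26Dual.Φ_transpose hsymm hesz).trans (congrArg (· ≫ lam) hes1)).trans (Category.id_comp lam)
  rw [a1, a2]

section Closed

variable {Ω : Type u} [Field Ω] [IsAlgClosed Ω] {A At : Over (Spec (CommRingCat.of Ω))} [GrpObj A] [IsProper A.hom]
  [GeometricallyIntegral A.hom] [IsCommMonObj A] [GrpObj At] [IsProper At.hom] [GeometricallyIntegral At.hom]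
  [IsCommMonObj At] {ψ : AgPol.DualMap A At} (hψ : AbDual.IsDualAV Scheme.fppfPrecoverage A At ψ)

theorem Φ_add_zero {u : PC (A ⊗ A).left} (hu : H26Dual.PZ A A u) (hψ : AbDual.IsDualAV Scheme.fppfPrecoverage A At ψ) :
    H26Dual.Φ ψ A (u + u + (u + u)) = H26Dual.Φ ψ A u ^ 4 := by
  have h2 : H26Dual.PZ A A (u + u) := H26Dual.pz_add hu hu
  rw [H26Dual.Φ_add hψ h2 h2, H26Dual.Φ_add hψ hu hu]
  simp [pow_succ, pow_zero, _root_.mul_assoc]

include hψ in
/-- A homomorphism half of the homomorphism of a class is the homomorphism of a class. -/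
theorem exists_theta_eq (f : A ⟶ At) [IsMonHom f] (w : PC A.left) (hw : H26Dual.Φ ψ A (theta w) = f * f) :
    ∃ v : PC A.left, H26Dual.Φ ψ A (theta v) = f := by
  obtain ⟨u, hu⟩ := H25Principal.exists_pairing hψ
  have hth : ∀ {T : Over (Spec (CommRingCat.of Ω))} (x y : T ⟶ A), th w x y = ev u (lift x (y ≫ (f * f))) := by
    intro T x y
    have key : theta w = ev u (A ◁ (f * f)) := by
      refine H26Dual.rig_eq hψ (H25Poinc.pz_theta_field w) (H26Dual.pz_ev_left _ hu.pz) ?_ ?_
      · show ev (theta w) _ = ev (ev u (A ◁ (f * f))) _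
        rw [theta_one_left, ev_comp, H25Principal.lift_whisker, Category.id_comp, hu.one_left]
      · exact hw.trans
          (((H26Dual.Φ_nat hψ _ hu.pz).trans (congrArg ((f * f) ≫ ·) hu.univ)).trans (Category.comp_id _)).symm
    rw [← th_eq, key, ev_comp, H25Principal.lift_whisker]
  obtain ⟨v, hv⟩ := H25FppfDesc.exists_ev_pow (n := 2) two_pos (w + w) (fun T x a ha => by
    have hadd : th (w + w) x a = th w x a + th w x a := by
      simp only [th, H25DualAV.ev_add']
      abel
    rw [hadd, hth, ← hu.add_right hψ, MonObj.comp_mul, ← MonObj.mul_comp, ← MonObj.mul_comp,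
      show a * a * (a * a) = a ^ (2 * 2) by simp [pow_succ, pow_zero, _root_.mul_assoc], ha, MonObj.one_comp,
      hu.one_right hψ])
  refine ⟨v, ?_⟩
  have hsum : theta (w + w) = theta v + theta v + (theta v + theta v) := by
    have h : ∀ {T : Over (Spec (CommRingCat.of Ω))} (p : T ⟶ A), ev (w + w) p = ev v (p * p) := fun p => by
      rw [← hv, ev_comp, comp_pow_id, sq]
    have hT : th (w + w) (fst A A) (snd A A) = th v (fst A A * fst A A) (snd A A * snd A A) := by
      simp only [th, h]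
      rw [_root_.mul_mul_mul_comm]
    have h1 : ∀ z : PC A.left, th z (fst A A) (snd A A) = theta z := fun z => rfl
    rw [h1] at hT
    rw [hT, th_mul_right, th_comm, th_mul_right, th_comm v (snd A A), h1]
  have hpz : H26Dual.PZ A A (theta v) := H25Poinc.pz_theta_field v
  have hpw : H26Dual.PZ A A (theta w) := H25Poinc.pz_theta_field w
  have hlin : theta (w + w) = theta w + theta w := by
    simp only [theta, H25DualAV.ev_add']
    abel
  have key : H26Dual.Φ ψ A (theta v) ^ 4 = f ^ 4 := by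
    rw [← Φ_add_zero hpz hψ, ← hsum, hlin, H26Dual.Φ_add hψ hpw hpw, hw]
    simp [pow_succ, pow_zero, _root_.mul_assoc]
  haveI : IsMonHom (H26Dual.Φ ψ A (theta v)) := H25Dual.isMonHom_lam_field hψ v
  let q : A ⟶ A := (𝟙 A) ^ 4
  haveI : Flat q.left := flat_pow (A := A) (by norm_num)
  haveI : Surjective q.left := surjective_pow (A := A) (by norm_num)
  haveI : IsFinite q.left := isFinite_pow (A := A) (by norm_num)
  haveI : Epi q.left := Flat.epi_of_flat_of_surjective q.left
  haveI : Epi q := Over.epi_of_epi_left q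
  rw [← cancel_epi q, MonObj.pow_comp, MonObj.pow_comp, Category.id_comp, Category.id_comp, key]

end Closed

variable {φ' : AgPol.DualMap Xt X} {ξ : PicF.Cl (PicF.XT X.hom Xt)}

include hφ in
/-- A symmetric homomorphism is the homomorphism of a class over an algebraically closed field. -/
theorem exists_isLambda (hξ : AbDual.IsPoincareCl X Xt φ ξ)
    (hξ' : AbDual.IsPoincareCl Xt X φ' (PicF.pullCl (pullbackSymmetry Xt.hom X.hom).hom ξ))
    (lam : X ⟶ Xt) [IsMonHom lam] (hsymm : AbDual.IsTranspose lam φ φ' lam)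
    (Ω : Type u) [Field Ω] [IsAlgClosed Ω] (t : Spec (CommRingCat.of Ω) ⟶ Spec (CommRingCat.of k)) :
    ∃ L : (Red.bc t X).left.Modules, PicF.IsInvertible L ∧
      AgPol.IsLambda (Red.bc t X) (Red.bc t Xt) (AgPol.bcDual t X Xt φ) L ((Over.pullback t).map lam) := by
  obtain ⟨w, hw⟩ := exists_theta_eq_sq hφ hξ hξ' lam hsymm
  obtain ⟨W, hW, rfl⟩ := exists_rep w
  let F := Over.pullback t
  haveI : IsProper (Red.bc t X).hom := MorphismProperty.pullback_snd (P := @IsProper) _ _ ‹IsProper X.hom›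
  haveI : GeometricallyIntegral (Red.bc t X).hom :=
    MorphismProperty.pullback_snd (P := @GeometricallyIntegral) _ _ ‹GeometricallyIntegral X.hom›
  haveI : IsProper (Red.bc t Xt).hom := MorphismProperty.pullback_snd (P := @IsProper) _ _ ‹IsProper Xt.hom›
  haveI : GeometricallyIntegral (Red.bc t Xt).hom :=
    MorphismProperty.pullback_snd (P := @GeometricallyIntegral) _ _ ‹GeometricallyIntegral Xt.hom›
  haveI : IsCommMonObj (Red.bc t X) := isCommMonObj_of_av
  haveI : IsCommMonObj (Red.bc t Xt) := isCommMonObj_of_av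
  haveI : IsMonHom (F.map lam) := inferInstance
  have hψ := H25Dual.BaseChange.isDualAV_bc t hφ
  have h1 : H25Dual.Φ (AgPol.bcDual t X Xt φ) (Red.bc t X)
      (theta (pc _ (H11Ample.isInvertible_pullback (pullback.fst X.hom t) hW))) = F.map lam * F.map lam := by
    rw [H25Dual.Φ_theta_of_isLambda (A := Red.bc t X) (At := Red.bc t Xt) hψ _ (H25Principal.isLambda_bc hφ t hW),
      ← Functor.map_mul]
    exact congrArg F.map hw
  obtain ⟨v, hv⟩ := exists_theta_eq (A := Red.bc t X) (At := Red.bc t Xt) hψ (F.map lam) _ h1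
  obtain ⟨L, hL, rfl⟩ := exists_rep v
  refine ⟨L, hL, ?_⟩
  rw [show (Over.pullback t).map lam = _ from hv.symm]
  exact H25Dual.isLambda_of_theta (A := Red.bc t X) (At := Red.bc t Xt) (φ := AgPol.bcDual t X Xt φ) hL

end Groth.Agent.H25Symm
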